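import Groth.Agent.Lib.HomSh.Rel
import Groth.Agent.Lib.WeakAss.Structure

/-!
# Local generators and relations of the sheaf Hom of coherent modules
-/

universe u

open CategoryTheory CategoryTheory.Limits Opposite AlgebraicGeometry TopologicalSpace

namespace GrothLib.HomSh

variable {X : Scheme.{u}}

/-- Finitely many generators and relations near every point. -/
def HasRel (F : X.Modules) : Prop :=
  ∀ x : X, ∃ (W : X.Opens) (ι : Type u) (_ : Fintype ι) (κ : Type u) (_ : Fintype κ) (m : ι → Γ(F, W))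
      (a : κ → ι → Γ(X, W)), x ∈ W ∧ GenOn F W m ∧ RelOn F m a

theorem hasRel_of_isFP {F : X.Modules} (hF : CohB1.IsFP F) : HasRel F := exists_relOn F hF

theorem hasRel_of_isCoh [IsLocallyNoetherian X] {F : X.Modules} (hF : Coh.IsCoh F) : HasRel F :=
  have := hF.1
  hasRel_of_isFP (GrothLib.QCoh.isFinitePresentation_of_isFiniteType F hF.2)

theorem isCoh_structureModule (X : Scheme.{u}) : Coh.IsCoh (Coh.structureModule X) := by
  have := GrothLib.WeakAss.isQuasicoherent_structureModule (X := X)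
  refine ⟨this, (GrothLib.QCoh.isFiniteType_iff_moduleFinite _).2 fun U hU => ?_⟩
  exact Module.Finite.of_surjective
    (LinearMap.toSpanSingleton Γ(X, U) Γ(Coh.structureModule X, U) (1 : Γ(X, U))) fun m =>
      ⟨m, mul_one (show Γ(X, U) from m)⟩

theorem HasRel.span_stalk {F : X.Modules} (hF : HasRel F) (x : X) :
    Module.Finite (X.presheaf.stalk x) (F.presheaf.stalk x) := by
  obtain ⟨W, ι, _, κ, _, m, a, hxW, hgen, -⟩ := hF x
  exact ⟨(hgen x hxW) ▸ Submodule.fg_span (Set.finite_range _)⟩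

theorem HasRel.evalStalk_bijective {F : X.Modules} (hF : HasRel F) (G : X.Modules) (x : X) :
    Function.Bijective (RefHull.evalStalk F G x) := by
  obtain ⟨W, ι, _, κ, _, m, a, hxW, hgen, hrel⟩ := hF x
  exact ⟨evalStalk_injective_of_genOn F G hxW hgen, evalStalk_surjective_of_relOn F G hxW hgen hrel⟩

theorem exists_common_denom {V : X.Opens} {x : X} (hx : x ∈ V) {M : Type*} [AddCommGroup M]
    [Module (X.presheaf.stalk x) M] {P : Type*} [AddCommGroup P] [Module Γ(X, V) P] (γ : P → M)
    (hγ : ∀ (c : Γ(X, V)) (z : P), γ (c • z) = X.presheaf.germ V x hx c • γ z)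
    {ι : Type*} [Fintype ι] (d : ι → M)
    (h : ∀ i, ∃ (c : Γ(X, V)) (z : P), c ∉ WeakAss.primeAt x hx ∧ X.presheaf.germ V x hx c • d i = γ z) :
    ∃ (c : Γ(X, V)) (z : ι → P), c ∉ WeakAss.primeAt x hx ∧
      ∀ i, X.presheaf.germ V x hx c • d i = γ (z i) := by
  classical
  choose c z hc hz using h
  refine ⟨∏ i, c i, fun i => (∏ j ∈ Finset.univ.erase i, c j) • z i,
    Submonoid.prod_mem (WeakAss.primeAt x hx).primeCompl fun i _ => hc i, fun i => ?_⟩
  rw [hγ, ← hz, ← mul_smul, ← map_mul, Finset.prod_erase_mul _ _ (Finset.mem_univ i)]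

theorem exists_mul_eq_germ {V : X.Opens} (hV : IsAffineOpen V) {x : X} (hx : x ∈ V)
    (d : X.presheaf.stalk x) : ∃ (c z : Γ(X, V)), c ∉ WeakAss.primeAt x hx ∧
      X.presheaf.germ V x hx c • d = X.presheaf.germ V x hx z := by
  let _ := TopCat.Presheaf.algebra_section_stalk X.presheaf (⟨x, hx⟩ : V)
  have := hV.isLocalization_stalk ⟨x, hx⟩
  obtain ⟨⟨z, c⟩, h⟩ := IsLocalization.surj (hV.primeIdealOf ⟨x, hx⟩).asIdeal.primeCompl
    (S := X.presheaf.stalk x) d
  refine ⟨c.1, z, fun hc => c.2 ?_, (mul_comm _ _).trans h⟩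
  exact (SetLike.ext_iff.1 (congrArg PrimeSpectrum.asIdeal (GrothLib.QCoh.primeAt_eq_primeIdealOf hV hx)) _).1 hc

theorem isUnit_germ {V : X.Opens} {x : X} (hx : x ∈ V) {c : Γ(X, V)} (hc : c ∉ WeakAss.primeAt x hx) :
    IsUnit (X.presheaf.germ V x hx c) :=
  (Scheme.mem_basicOpen _ c x hx).mp (WeakAss.notMem_primeAt_iff.mp hc)

/-- Generators and relations for the sheaf Hom. -/
theorem hasRel_homSh [IsLocallyNoetherian X] {F G : X.Modules} (hF : HasRel F) (hG : Coh.IsCoh G) :
    HasRel (RefHull.homSh F G) := by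
  classical
  intro x
  obtain ⟨W, ι, _, κ, _, m, a, hxW, hgen, hrel⟩ := hF x
  obtain ⟨U, hU, hxU, hUW⟩ := Opens.isBasis_iff_nbhd.1 X.isBasis_affineOpens hxW
  have hA : IsNoetherianRing Γ(X, U) := IsLocallyNoetherian.component_noetherian ⟨U, hU⟩
  have := hG.1
  have : Module.Finite Γ(X, U) Γ(G, U) := GrothLib.QCoh.moduleFinite_of_isFiniteType G hG.2 hU
  let R : (ι → Γ(G, U)) →ₗ[Γ(X, U)] (κ → Γ(G, U)) := LinearMap.pi fun k =>
    ∑ i, X.presheaf.map (homOfLE hUW).op (a k i) • LinearMap.proj i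
  have hR : ∀ (n : ι → Γ(G, U)) k, R n k = ∑ i, X.presheaf.map (homOfLE hUW).op (a k i) • n i := fun n k => by
    simp [R]
  obtain ⟨p, v, hv⟩ := Module.Finite.exists_fin (R := Γ(X, U)) (M := LinearMap.ker R)
  have hsec : ∀ n : LinearMap.ker R, ∃ g : Γ(RefHull.homSh F G, U), ∀ (y : X) (hy : y ∈ U) (i : ι),
      g.1 ⟨y, hy⟩ (F.presheaf.germ W y (hUW hy) (m i)) = G.presheaf.germ U y hy (n.1 i) := fun n => by
    refine exists_section_of_relOn F G hgen hrel hUW (le_refl U) n.1 fun k => ?_
    rw [← hR, show R n.1 = 0 from n.2, Pi.zero_apply, map_zero]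
  choose θ hθ using hsec
  let T : (Fin p → Γ(X, U)) →ₗ[Γ(X, U)] LinearMap.ker R := Fintype.linearCombination Γ(X, U) v
  obtain ⟨q, b, hb⟩ := Module.Finite.exists_fin (R := Γ(X, U)) (M := LinearMap.ker T)
  have hev : ∀ (y : X) (hy : y ∈ U) (φ ψ : RefHull.StalkHom F G y),
      (∀ i, φ (F.presheaf.germ W y (hUW hy) (m i)) = ψ (F.presheaf.germ W y (hUW hy) (m i))) → φ = ψ :=
    fun y hy φ ψ h => LinearMap.ext_on_range (hgen y (hUW hy)) h
  have hT : ∀ (y : X) (hy : y ∈ U) (c : Fin p → Γ(X, U)) (i : ι),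
      (RefHull.evalStalk F G y (∑ j, X.presheaf.germ U y hy (c j) •
        (RefHull.homSh F G).presheaf.germ U y hy (θ (v j)))) (F.presheaf.germ W y (hUW hy) (m i)) =
        G.presheaf.germ U y hy ((T c).1 i) := fun y hy c i => by
    simp only [map_sum, map_smul, RefHull.evalStalk_germ, LinearMap.sum_apply, LinearMap.smul_apply, hθ, T,
      Fintype.linearCombination_apply, Submodule.coe_sum, Submodule.coe_smul, Finset.sum_apply, Pi.smul_apply,
      Mero.germ_smul]
  refine ⟨U, ULift (Fin p), inferInstance, ULift (Fin q), inferInstance, fun j => θ (v j.down),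
    fun l j => (b l.down).1 j.down, hxU, fun y hy => ?_, fun y hy => ⟨fun l => ?_, fun d hd => ?_⟩⟩
  · obtain ⟨hxW', hgen', hrel'⟩ := (⟨hUW hy, hgen, hrel⟩ : y ∈ W ∧ GenOn F W m ∧ RelOn F m a)
    refine eq_top_iff.2 fun s _ => ?_
    obtain ⟨c, z, hc, hz⟩ := exists_common_denom hy (fun z : Γ(G, U) => G.presheaf.germ U y hy z)
      (fun c z => Mero.germ_smul G U y hy c z)
      (fun i => RefHull.evalStalk F G y s (F.presheaf.germ W y hxW' (m i)))
      fun i => WeakAss.exists_smul_eq_germ hU hy _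
    have hker : ∀ k, ∃ c' ∉ WeakAss.primeAt y hy, c' • R z k = 0 := fun k => by
      refine (WeakAss.germ_eq_zero_iff hU hy _).1 ?_
      rw [hR, map_sum]
      calc _ = ∑ i, X.presheaf.germ U y hy c • (X.presheaf.germ W y hxW' (a k i) •
            RefHull.evalStalk F G y s (F.presheaf.germ W y hxW' (m i))) := by
            refine Finset.sum_congr rfl fun i _ => ?_
            rw [Mero.germ_smul, ← hz, TopCat.Presheaf.germ_res_apply, smul_comm]
        _ = 0 := by
            rw [← Finset.smul_sum]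
            simp only [← map_smul, ← map_sum, (hrel' y hxW').1 k, map_zero, smul_zero]
    choose c' hc' hcz using hker
    let C := ∏ k, c' k
    have hC : C ∉ WeakAss.primeAt y hy :=
      Submonoid.prod_mem (WeakAss.primeAt y hy).primeCompl fun k _ => hc' k
    have hCz : C • z ∈ LinearMap.ker R := LinearMap.mem_ker.2 <| funext fun k => by
      rw [map_smul, Pi.smul_apply, Pi.zero_apply, show C = (∏ l ∈ Finset.univ.erase k, c' l) * c' k from
        (Finset.prod_erase_mul _ _ (Finset.mem_univ k)).symm, mul_smul, hcz, smul_zero]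
    obtain ⟨d, hd⟩ := (Submodule.mem_span_range_iff_exists_fun _).1
      (hv.ge (Submodule.mem_top (x := (⟨C • z, hCz⟩ : LinearMap.ker R))))
    have key : (X.presheaf.germ U y hy C * X.presheaf.germ U y hy c) • s =
        ∑ j, X.presheaf.germ U y hy (d j) • (RefHull.homSh F G).presheaf.germ U y hy (θ (v j)) := by
      refine evalStalk_injective_of_genOn F G hxW' hgen' (hev y hy _ _ fun i => ?_)
      rw [hT, map_smul, LinearMap.smul_apply, mul_smul, hz, ← Mero.germ_smul]
      exact congrArg (fun n : LinearMap.ker R => G.presheaf.germ U y hy (n.1 i)) hd.symm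
    refine (Submodule.smul_mem_iff_of_isUnit _ ((isUnit_germ hy hC).mul (isUnit_germ hy hc))).1 ?_
    rw [key]
    exact Submodule.sum_mem _ fun j _ => Submodule.smul_mem _ _ (Submodule.subset_span ⟨⟨j⟩, rfl⟩)
  · refine evalStalk_injective_of_genOn F G (hUW hy) hgen (hev y hy _ _ fun i => ?_)
    rw [map_zero, LinearMap.zero_apply, ← Equiv.ulift.symm.sum_comp]
    refine (hT y hy (b l.down).1 i).trans ?_
    rw [show T (b l.down).1 = 0 from (b l.down).2]
    exact map_zero _
  · obtain ⟨c, z, hc, hz⟩ := exists_common_denom hy (fun z : Γ(X, U) => X.presheaf.germ U y hy z)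
      (fun c z => map_mul (X.presheaf.germ U y hy).hom c z) (fun j => d ⟨j⟩)
      fun j => exists_mul_eq_germ hU hy _
    have hker : ∀ i, ∃ c' ∉ WeakAss.primeAt y hy, c' • (T z).1 i = 0 := fun i => by
      refine (WeakAss.germ_eq_zero_iff hU hy _).1 ?_
      rw [← hT y hy z i]
      have : ∑ j, X.presheaf.germ U y hy (z j) • (RefHull.homSh F G).presheaf.germ U y hy (θ (v j)) =
          X.presheaf.germ U y hy c • ∑ j : ULift.{u} (Fin p), d j •
            (RefHull.homSh F G).presheaf.germ U y hy (θ (v j.down)) := by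
        rw [Finset.smul_sum, ← Equiv.ulift.symm.sum_comp]
        refine Finset.sum_congr rfl fun j _ => ?_
        rw [← hz, smul_assoc]
        rfl
      rw [this, hd, smul_zero, map_zero, LinearMap.zero_apply]
    choose c' hc' hcz using hker
    let C := ∏ i, c' i
    have hC : C ∉ WeakAss.primeAt y hy :=
      Submonoid.prod_mem (WeakAss.primeAt y hy).primeCompl fun k _ => hc' k
    have hCz : C • z ∈ LinearMap.ker T := LinearMap.mem_ker.2 <| Subtype.ext <| funext fun k => by
      rw [map_smul, Submodule.coe_smul, Pi.smul_apply, show C = (∏ l ∈ Finset.univ.erase k, c' l) * c' k from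
        (Finset.prod_erase_mul _ _ (Finset.mem_univ k)).symm, mul_smul, hcz, smul_zero]
      rfl
    obtain ⟨e, he⟩ := (Submodule.mem_span_range_iff_exists_fun _).1
      (hb.ge (Submodule.mem_top (x := (⟨C • z, hCz⟩ : LinearMap.ker T))))
    refine (Submodule.smul_mem_iff_of_isUnit _ ((isUnit_germ hy hC).mul (isUnit_germ hy hc))).1 ?_
    refine (Submodule.mem_span_range_iff_exists_fun _).2 ⟨fun l => X.presheaf.germ U y hy (e l.down), funext fun j => ?_⟩
    simp only [Finset.sum_apply, Pi.smul_apply, smul_eq_mul]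
    rw [mul_assoc, show X.presheaf.germ U y hy c * d j = X.presheaf.germ U y hy (z j.down) from hz j.down,
      ← map_mul, ← Equiv.ulift.symm.sum_comp]
    simp only [Equiv.ulift_symm_down, ← map_mul, ← map_sum]
    refine congrArg (X.presheaf.germ U y hy) ?_
    refine Eq.trans ?_ (congrArg (fun t : LinearMap.ker T => t.1 j.down) he)
    simp [Finset.sum_apply]

end GrothLib.HomSh
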