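import Groth.Agent.Lib.HomSh.Coherent
import Groth.Agent.Lib.QCoh.Affine
import Groth.Agent.Lib.QCoh.FT

/-!
# The sheaf Hom of coherent modules is coherent
-/

set_option autoImplicit false

universe u

open CategoryTheory CategoryTheory.Limits Opposite AlgebraicGeometry TopologicalSpace

namespace GrothLib.HomSh

variable {X : Scheme.{u}} {F G : X.Modules}

/-- Evaluation of a section of the sheaf Hom at a section. -/
theorem existsUnique_apply {U : X.Opens} (g : Γ(RefHull.homSh F G, U)) (m : Γ(F, U)) :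
    ∃! n : Γ(G, U), ∀ (y : X) (hy : y ∈ U),
      g.1 ⟨y, hy⟩ (F.presheaf.germ U y hy m) = G.presheaf.germ U y hy n := by
  choose W hxW j n hn using fun x : U => RefHull.isLocSect_of_mem g U (𝟙 U) m x
  have hcomp : TopCat.Presheaf.IsCompatible (C := Ab.{u}) G.presheaf W n := by
    intro a b
    refine TopCat.Presheaf.section_ext (C := Ab.{u}) (X := X.carrier) ⟨G.presheaf, G.isSheaf⟩ _ _ _
      fun y hy => ?_
    change G.presheaf.germ _ y hy (G.presheaf.map _ (n a)) = G.presheaf.germ _ y hy (G.presheaf.map _ (n b))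
    rw [TopCat.Presheaf.germ_res_apply, TopCat.Presheaf.germ_res_apply]
    exact (hn a ⟨y, hy.1⟩).symm.trans (hn b ⟨y, hy.2⟩)
  obtain ⟨s, hs, -⟩ := TopCat.Sheaf.existsUnique_gluing' ⟨G.presheaf, G.isSheaf⟩ W U j
    (fun y hy => Opens.mem_iSup.2 ⟨⟨y, hy⟩, hxW ⟨y, hy⟩⟩) n hcomp
  refine ⟨s, fun x hx => ?_, fun t ht => TopCat.Presheaf.section_ext (C := Ab.{u}) (X := X.carrier)
    ⟨G.presheaf, G.isSheaf⟩ U t s fun x hx => ?_⟩
  · have := congrArg (G.presheaf.germ (W ⟨x, hx⟩) x (hxW ⟨x, hx⟩)) (hs ⟨x, hx⟩)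
    erw [TopCat.Presheaf.germ_res_apply] at this
    exact (hn ⟨x, hx⟩ ⟨x, hxW ⟨x, hx⟩⟩).trans this.symm
  · have := congrArg (G.presheaf.germ (W ⟨x, hx⟩) x (hxW ⟨x, hx⟩)) (hs ⟨x, hx⟩)
    erw [TopCat.Presheaf.germ_res_apply] at this
    exact (ht x hx).symm.trans ((hn ⟨x, hx⟩ ⟨x, hxW ⟨x, hx⟩⟩).trans this.symm)

theorem ext_of_genOn {W U : X.Opens} (hUW : U ≤ W) {ι : Type u} [Fintype ι] {m : ι → Γ(F, W)}
    (hgen : GenOn F W m) (g g' : Γ(RefHull.homSh F G, U))
    (h : ∀ (y : X) (hy : y ∈ U) (i : ι), g.1 ⟨y, hy⟩ (F.presheaf.germ W y (hUW hy) (m i)) =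
      g'.1 ⟨y, hy⟩ (F.presheaf.germ W y (hUW hy) (m i))) : g = g' :=
  Subtype.ext <| funext fun y => LinearMap.ext_on_range (hgen y.1 (hUW y.2)) (h y.1 y.2)

section

variable {W U : X.Opens} (hUW : U ≤ W) {ι : Type u} [Fintype ι] {m : ι → Γ(F, W)} (hgen : GenOn F W m)

/-- Values of a section of the sheaf Hom on given sections. -/
noncomputable def applyGens (t : Γ(RefHull.homSh F G, U)) (i : ι) : Γ(G, U) :=
  (existsUnique_apply t (F.presheaf.map (homOfLE hUW).op (m i))).exists.choose

theorem germ_applyGens (t : Γ(RefHull.homSh F G, U)) (i : ι) (y : X) (hy : y ∈ U) :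
    G.presheaf.germ U y hy (applyGens (m := m) hUW t i) = t.1 ⟨y, hy⟩ (F.presheaf.germ W y (hUW hy) (m i)) := by
  have := (existsUnique_apply t (F.presheaf.map (homOfLE hUW).op (m i))).exists.choose_spec y hy
  rw [TopCat.Presheaf.germ_res_apply] at this
  exact this.symm

/-- The linear map of values on given sections. -/
noncomputable def applyGensₗ : Γ(RefHull.homSh F G, U) →ₗ[Γ(X, U)] (ι → Γ(G, U)) where
  toFun t i := applyGens (m := m) hUW t i
  map_add' t t' := funext fun i => TopCat.Presheaf.section_ext (C := Ab.{u}) (X := X.carrier)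
    ⟨G.presheaf, G.isSheaf⟩ U _ _ fun y hy => by
      change G.presheaf.germ U y hy _ = G.presheaf.germ U y hy _
      rw [germ_applyGens, Pi.add_apply, map_add, germ_applyGens, germ_applyGens]
      rfl
  map_smul' c t := funext fun i => TopCat.Presheaf.section_ext (C := Ab.{u}) (X := X.carrier)
    ⟨G.presheaf, G.isSheaf⟩ U _ _ fun y hy => by
      change G.presheaf.germ U y hy _ = G.presheaf.germ U y hy _
      rw [germ_applyGens, RingHom.id_apply, Pi.smul_apply, Mero.germ_smul, germ_applyGens]
      rfl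

include hgen in
theorem applyGensₗ_injective : Function.Injective (applyGensₗ (G := G) (m := m) hUW) := fun t t' h =>
  ext_of_genOn hUW hgen t t' fun y hy i => by
    rw [← germ_applyGens, ← germ_applyGens]
    exact congrArg (G.presheaf.germ U y hy) (congrFun h i)

end

/-- The sheaf Hom of coherent modules is coherent. -/
theorem isCoh_homSh [IsLocallyNoetherian X] (hF : HasRel F) (hG : Coh.IsCoh G) :
    Coh.IsCoh (RefHull.homSh F G) := by
  classical
  choose W ι hι κ hκ m a hxW hgen hrel using hF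
  have hnb : ∀ x : X, ∃ U : X.Opens, IsAffineOpen U ∧ x ∈ U ∧ U ≤ W x := fun x =>
    let ⟨U, hU, hx, hle⟩ := Opens.isBasis_iff_nbhd.1 X.isBasis_affineOpens (hxW x)
    ⟨U, hU, hx, hle⟩
  choose U hA hxU hUW using hnb
  have hcov : IsOpenCover U := eq_top_iff.2 fun x _ => Opens.mem_iSup.2 ⟨x, hxU x⟩
  have := hG.1
  have hqc : (RefHull.homSh F G).IsQuasicoherent := by
    refine QCoh.isQuasicoherent_of_smulLift_of_smulSep _ U hcov hA fun x g => ⟨fun s => ?_, fun t ht => ?_⟩
    · have hle : X.basicOpen g ≤ W x := (X.basicOpen_le g).trans (hUW x)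
      choose k t ht using fun i =>
        (QCoh.smulLift_and_smulSep_of_isAffineOpen (hA x) G g).1 (applyGens (m := m x) hle s i)
      let N := ∑ i, k i
      let t' : ι x → Γ(G, U x) := fun i => g ^ (N - k i) • t i
      have ht' : ∀ i, G.presheaf.map (homOfLE (X.basicOpen_le g)).op (t' i) =
          (X.presheaf.map (homOfLE (X.basicOpen_le g)).op g) ^ N • applyGens (m := m x) hle s i := fun i => by
        rw [Scheme.Modules.map_smul, ht, map_pow, smul_smul, ← pow_add,
          Nat.sub_add_cancel (Finset.single_le_sum (fun j _ => Nat.zero_le (k j)) (Finset.mem_univ i))]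
      have hsep : ∀ j : κ x, ∃ l : ℕ,
          g ^ l • ∑ i, X.presheaf.map (homOfLE (hUW x)).op (a x j i) • t' i = 0 := fun j => by
        refine (QCoh.smulLift_and_smulSep_of_isAffineOpen (hA x) G g).2 _ ?_
        refine GrothLib.QCoh.section_eq_zero_of_germ G _ fun y hy => ?_
        rw [TopCat.Presheaf.germ_res_apply, map_sum]
        have := congrArg (s.1 ⟨y, hy⟩) ((hrel x y (hle hy)).1 j)
        rw [map_zero, map_sum] at this
        calc _ = ∑ i, X.presheaf.germ (U x) y (X.basicOpen_le g hy) g ^ N •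
              s.1 ⟨y, hy⟩ (X.presheaf.germ (W x) y (hle hy) (a x j i) •
                F.presheaf.germ (W x) y (hle hy) (m x i)) := by
              refine Finset.sum_congr rfl fun i _ => ?_
              rw [Mero.germ_smul, TopCat.Presheaf.germ_res_apply,
                ← TopCat.Presheaf.germ_res_apply G.presheaf (homOfLE (X.basicOpen_le g)) y hy, ht',
                Mero.germ_smul, map_pow, TopCat.Presheaf.germ_res_apply, germ_applyGens, map_smul, smul_comm]
          _ = 0 := by rw [← Finset.smul_sum, this, smul_zero]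
      choose l hl using hsep
      let L := ∑ j, l j
      obtain ⟨θ, hθ⟩ := exists_section_of_relOn F G (hgen x) (hrel x) (hUW x) (le_refl (U x))
        (fun i => g ^ L • t' i) fun j => by
          have : ∑ i, X.presheaf.map (homOfLE (hUW x)).op (a x j i) • g ^ L • t' i =
              g ^ (L - l j) • g ^ l j • ∑ i, X.presheaf.map (homOfLE (hUW x)).op (a x j i) • t' i := by
            rw [smul_smul, ← pow_add,
              Nat.sub_add_cancel (Finset.single_le_sum (fun j _ => Nat.zero_le (l j)) (Finset.mem_univ j)),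
              Finset.smul_sum]
            exact Finset.sum_congr rfl fun i _ => smul_comm _ _ _
          rw [this, hl, smul_zero, map_zero]
      refine ⟨L + N, θ, ext_of_genOn hle (hgen x) _ _ fun y hy i => ?_⟩
      change θ.1 ⟨y, X.basicOpen_le g hy⟩ _ =
        (X.presheaf.germ (X.basicOpen g) y hy
          ((X.presheaf.map (homOfLE (X.basicOpen_le g)).op g) ^ (L + N)) • s.1 ⟨y, hy⟩) _
      rw [LinearMap.smul_apply, hθ, ← germ_applyGens (m := m x) hle, pow_add, map_mul, mul_smul,
        ← Mero.germ_smul G (X.basicOpen g), ← ht', TopCat.Presheaf.germ_res_apply, Mero.germ_smul,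
        map_pow, map_pow, TopCat.Presheaf.germ_res_apply]
    · have hk : ∀ i, ∃ k : ℕ, g ^ k • applyGens (m := m x) (hUW x) t i = 0 := fun i => by
        refine (QCoh.smulLift_and_smulSep_of_isAffineOpen (hA x) G g).2 _ ?_
        refine GrothLib.QCoh.section_eq_zero_of_germ G _ fun y hy => ?_
        rw [TopCat.Presheaf.germ_res_apply, germ_applyGens]
        have h0 : t.1 ⟨y, X.basicOpen_le g hy⟩ = 0 := congrFun (congrArg Subtype.val ht) ⟨y, hy⟩
        rw [h0, LinearMap.zero_apply]
      choose k hk using hk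
      refine ⟨∑ i, k i, applyGensₗ_injective (hUW x) (hgen x) ?_⟩
      rw [map_smul, map_zero]
      funext i
      change g ^ _ • applyGens (m := m x) (hUW x) t i = 0
      rw [← Nat.sub_add_cancel (Finset.single_le_sum (fun j _ => Nat.zero_le (k j)) (Finset.mem_univ i)),
        pow_add, mul_smul, hk, smul_zero]
  refine ⟨hqc, QCoh.isFiniteType_of_moduleFinite _ U hcov hA fun x => ?_⟩
  have : IsNoetherianRing Γ(X, U x) := IsLocallyNoetherian.component_noetherian ⟨U x, hA x⟩
  have := QCoh.moduleFinite_of_isFiniteType G hG.2 (hA x)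
  exact Module.Finite.of_injective _ (applyGensₗ_injective (G := G) (hUW x) (hgen x))

/-- The dual of a coherent module is coherent. -/
theorem isCoh_dual [IsLocallyNoetherian X] (hF : HasRel F) : Coh.IsCoh (RefHull.dual F) :=
  isCoh_homSh hF (isCoh_structureModule X)

end GrothLib.HomSh
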