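import Mathlib
import Groth.Agent.Lib.QCoh.Support
import Groth.Agent.Lib.QCoh.GenericPoint

/-!
# Modules of finite type: finitely many sections whose germs generate the stalks nearby
-/

universe u

open CategoryTheory CategoryTheory.Limits Opposite AlgebraicGeometry TopologicalSpace

namespace GrothLib.HomSh

variable {X : Scheme.{u}}

/-- The germs of a generating family of sections span each stalk. -/
theorem span_germ_eq_top {N : X.Modules} (G : SheafOfModules.GeneratingSections.{u} N) (y : X) :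
    Submodule.span (X.presheaf.stalk y)
      (Set.range fun j => N.presheaf.germ ⊤ y trivial ((G.s j).val (op ⊤))) = ⊤ := by
  set S := Submodule.span (X.presheaf.stalk y)
      (Set.range fun j => N.presheaf.germ ⊤ y trivial ((G.s j).val (op ⊤))) with hS
  let Q : ModuleCat.{u} (X.presheaf.stalk y) := ModuleCat.of _ (N.presheaf.stalk y ⧸ S)
  let p : (OX.stalk y).obj N ⟶ Q := ModuleCat.ofHom S.mkQ
  let η : N ⟶ OX.skyObj y Q := ⟨OX.stalkHomEquiv y _ Q p⟩
  have hη : η = 0 := GrothLib.QCoh.eq_zero_of_generatingSections G η fun j V => by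
    funext h
    refine (Submodule.Quotient.mk_eq_zero S).2 ?_
    have e : (G.s j).val (op V) = N.presheaf.map (homOfLE le_top).op ((G.s j).val (op ⊤)) :=
      ((G.s j).property (homOfLE (le_top (a := V))).op).symm
    change N.presheaf.germ V y h.down ((G.s j).val (op V)) ∈ S
    rw [e]
    erw [TopCat.Presheaf.germ_res_apply N.presheaf (homOfLE (le_top (a := V))) y h.down ((G.s j).val (op ⊤))]
    exact Submodule.subset_span ⟨j, rfl⟩
  refine eq_top_iff.2 fun e _ => ?_
  obtain ⟨V, hy, m, rfl⟩ := TopCat.Presheaf.exists_germ_eq N.presheaf e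
  have h0 : (η.app V m : OX.SkySec y Q (op V)) ⟨hy⟩ = 0 := by rw [hη]; rfl
  exact (Submodule.Quotient.mk_eq_zero S).1 h0

variable (F : X.Modules)

/-- Every section is near each point a linear combination of the sections `m`. -/
def GenOn (W : X.Opens) {ι : Type u} [Fintype ι] (m : ι → Γ(F, W)) : Prop :=
  ∀ (y : X) (hy : y ∈ W),
    Submodule.span (X.presheaf.stalk y) (Set.range fun i => F.presheaf.germ W y hy (m i)) = ⊤

/-- A module of finite type is locally generated by finitely many sections. -/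
theorem exists_genOn (hF : CohB1.IsFT F) (x : X) :
    ∃ (W : X.Opens) (ι : Type u) (_ : Fintype ι) (m : ι → Γ(F, W)), x ∈ W ∧ GenOn F W m := by
  obtain ⟨U, G, hxU, hG⟩ := GrothLib.QCoh.exists_generatingSections_restrict F hF x
  have : Finite G.I := hG.finite
  let _ : Fintype G.I := Fintype.ofFinite _
  refine ⟨U.ι ''ᵁ ⊤, G.I, inferInstance, fun j => (G.s j).val (op ⊤), ⟨⟨x, hxU⟩, trivial, rfl⟩, fun y hy => ?_⟩
  obtain ⟨y', -, rfl⟩ := hy
  let e := (Scheme.Modules.restrictStalkNatIso U.ι y').app F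
  refine eq_top_iff.2 fun v _ => ?_
  let φ : (F.restrict U.ι).presheaf.stalk y' →+ F.presheaf.stalk (U.ι y') := e.hom.hom
  have hφ : ∀ (W : (U : Scheme.{u}).Opens) (hW : y' ∈ W) (t : Γ(F.restrict U.ι, W)),
      φ ((F.restrict U.ι).presheaf.germ W y' hW t) =
        F.presheaf.germ (U.ι ''ᵁ W) (U.ι y') ⟨y', hW, rfl⟩ t := fun W hW t =>
    ConcreteCategory.congr_hom
      (Scheme.Modules.germ_restrictStalkNatIso_hom_app U.ι y' F (U := W) hW) t
  suffices key : ∀ w : (F.restrict U.ι).presheaf.stalk y', φ w ∈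
      Submodule.span (X.presheaf.stalk (U.ι y'))
        (Set.range fun i => F.presheaf.germ (U.ι ''ᵁ ⊤) (U.ι y') ⟨y', trivial, rfl⟩ ((G.s i).val (op ⊤))) by
    have hv : e.hom (e.inv v) = v := Iso.inv_hom_id_apply e v
    rw [← hv]
    exact key _
  intro w
  have hw := (span_germ_eq_top G y').ge (Submodule.mem_top (x := w))
  induction hw using Submodule.span_induction with
  | mem z hz =>
    obtain ⟨j, rfl⟩ := hz
    refine Submodule.subset_span ⟨j, ?_⟩
    exact (hφ ⊤ trivial _).symm
  | zero => rw [map_zero]; exact zero_mem _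
  | add a b _ _ ha hb => rw [map_add]; exact add_mem ha hb
  | smul c z _ hz =>
    obtain ⟨V, hV, r, rfl⟩ := TopCat.Presheaf.exists_germ_eq (U : Scheme.{u}).presheaf c
    obtain ⟨V', hV', s, rfl⟩ := TopCat.Presheaf.exists_germ_eq (F.restrict U.ι).presheaf z
    have hW : y' ∈ V ⊓ V' := ⟨hV, hV'⟩
    have er := TopCat.Presheaf.germ_res_apply (U : Scheme.{u}).presheaf
      (homOfLE (inf_le_left : V ⊓ V' ≤ V)) y' hW r
    have es := TopCat.Presheaf.germ_res_apply (F.restrict U.ι).presheaf
      (homOfLE (inf_le_right : V ⊓ V' ≤ V')) y' hW s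
    rw [← es] at hz ⊢
    rw [← er, ← WeakAss.germ_smul (F := F.restrict U.ι) hW, hφ]
    rw [hφ] at hz
    erw [WeakAss.germ_smul (F := F) (V := U.ι ''ᵁ (V ⊓ V')) (x := U.ι y') ⟨y', hW, rfl⟩]
    exact Submodule.smul_mem _ _ hz

end GrothLib.HomSh
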