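import Mathlib

/-!
# Duals of finite modules over a domain are reflexive
-/

universe u v w

namespace GrothLib.HomSh

open Module

theorem exists_factor (R : Type u) [CommRing R] [IsDomain R] (P : Type v) [AddCommGroup P] [Module R P]
    [Module.Finite R P] :
    ∃ (ι : Type) (_ : Fintype ι) (j : P →ₗ[R] (ι → R)) (s : (ι → R) →ₗ[R] P) (r : R),
      r ≠ 0 ∧ ∀ p, s (j p) = r • p := by
  classical
  obtain ⟨n, g, hg⟩ := Module.Finite.exists_fin (R := R) (M := P)
  let 𝒮 := (Finset.univ : Finset (Finset (Fin n))).filter fun t => LinearIndependent R fun i : {i // i ∈ t} => g i.1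
  have hne : 𝒮.Nonempty := ⟨∅, Finset.mem_filter.2 ⟨Finset.mem_univ _, linearIndependent_empty_type⟩⟩
  obtain ⟨t, ht, hmax⟩ := 𝒮.exists_max_image Finset.card hne
  have hli := (Finset.mem_filter.1 ht).2
  let S := Submodule.span R (Set.range fun i : {i // i ∈ t} => g i.1)
  have hscal : ∀ i, ∃ c : R, c ≠ 0 ∧ c • g i ∈ S := fun i => by
    by_cases hi : i ∈ t
    · exact ⟨1, one_ne_zero, by rw [one_smul]; exact Submodule.subset_span ⟨⟨i, hi⟩, rfl⟩⟩
    · by_contra! h
      have hli' : LinearIndepOn R g (insert i t : Finset (Fin n)) := by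
        rw [Finset.coe_insert]
        have hli'' : LinearIndepOn R g (t : Set (Fin n)) := hli
        refine linearIndepOn_iff_linearIndepOn_finset.2 fun u hu => ?_
        rw [linearIndepOn_iff']
        intro s c hsu hsum
        have hs : ∀ j ∈ s, j = i ∨ j ∈ t := fun j hj => hu (hsu hj)
        have hci : ∀ (_ : i ∈ s), c i = 0 := fun his => by
          by_contra hc
          refine h (c i) hc ?_
          rw [← Finset.add_sum_erase _ _ his, add_eq_zero_iff_eq_neg] at hsum
          rw [hsum]
          refine Submodule.neg_mem _ (Submodule.sum_mem _ fun j hj => Submodule.smul_mem _ _ ?_)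
          obtain ⟨hji, hjs⟩ := Finset.mem_erase.1 hj
          exact Submodule.subset_span ⟨⟨j, (hs j hjs).resolve_left hji⟩, rfl⟩
        intro j hj
        by_cases hji : j = i
        · subst hji; exact hci hj
        · refine linearIndepOn_iff'.1 hli'' (s.erase i) c (fun k hk => ?_) ?_ j (Finset.mem_erase.2 ⟨hji, hj⟩)
          · obtain ⟨hki, hks⟩ := Finset.mem_erase.1 hk
            exact (hs k hks).resolve_left hki
          · refine Eq.trans ?_ hsum
            by_cases his : i ∈ s
            · rw [← Finset.add_sum_erase _ _ his, hci his, zero_smul, zero_add]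
            · rw [Finset.erase_eq_of_notMem his]
      have := hmax (insert i t) (Finset.mem_filter.2 ⟨Finset.mem_univ _, hli'⟩)
      rw [Finset.card_insert_of_notMem hi] at this
      omega
  choose c hc0 hc using hscal
  let r := ∏ i, c i
  have hr : r ≠ 0 := Finset.prod_ne_zero_iff.2 fun i _ => hc0 i
  have hrS : ∀ p, r • p ∈ S := fun p => by
    have hp : p ∈ Submodule.span R (Set.range g) := hg ▸ Submodule.mem_top
    induction hp using Submodule.span_induction with
    | mem x hx =>
      obtain ⟨i, rfl⟩ := hx
      have : r = (∏ j ∈ Finset.univ.erase i, c j) * c i := (Finset.prod_erase_mul _ _ (Finset.mem_univ i)).symm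
      rw [this, mul_smul]
      exact Submodule.smul_mem _ _ (hc i)
    | zero => rw [smul_zero]; exact zero_mem _
    | add a b _ _ ha hb => rw [smul_add]; exact add_mem ha hb
    | smul a x _ hx => rw [smul_comm]; exact Submodule.smul_mem _ _ hx
  refine ⟨{i // i ∈ t}, inferInstance, (Finsupp.linearEquivFunOnFinite R R {i // i ∈ t}).toLinearMap ∘ₗ
    hli.repr ∘ₗ (LinearMap.lsmul R P r).codRestrict S hrS,
    Finsupp.linearCombination R (fun i : {i // i ∈ t} => g i.1) ∘ₗ (Finsupp.linearEquivFunOnFinite R R {i // i ∈ t}).symm.toLinearMap,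
    r, hr, fun p => ?_⟩
  simp only [LinearMap.comp_apply, LinearEquiv.coe_coe, LinearEquiv.symm_apply_apply]
  exact hli.linearCombination_repr _

/-- The dual of a finite module over a domain is reflexive. -/
theorem isReflexive_dual (R : Type u) [CommRing R] [IsDomain R] (P : Type v) [AddCommGroup P] [Module R P]
    [Module.Finite R P] : IsReflexive R (Dual R P) := by
  obtain ⟨ι, _, j, s, r, hr, hsj⟩ := exists_factor R P
  refine ⟨⟨fun a b hab => LinearMap.ext fun p => ?_, fun ψ => ?_⟩⟩
  · exact LinearMap.congr_fun hab (Dual.eval R P p)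
  · refine ⟨ψ ∘ₗ Dual.eval R P, LinearMap.ext fun ω => ?_⟩
    obtain ⟨v, hv⟩ := (bijective_dual_eval R (ι → R)).2 (j.dualMap.dualMap ω)
    have hω : r • ω = Dual.eval R P (s v) := by
      have h1 : r • ω = s.dualMap.dualMap (j.dualMap.dualMap ω) := by
        refine LinearMap.ext fun f => ?_
        change r • ω f = ω ((f ∘ₗ s) ∘ₗ j)
        rw [← map_smul]
        congr 1
        exact LinearMap.ext fun p => by simp [hsj]
      rw [h1, ← hv]
      exact LinearMap.ext fun f => rfl
    refine mul_left_cancel₀ hr ?_
    calc r * (Dual.eval R (Dual R P) (ψ ∘ₗ Dual.eval R P) ω) = (r • ω) (ψ ∘ₗ Dual.eval R P) := rfl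
      _ = ψ (Dual.eval R P (s v)) := by rw [hω]; rfl
      _ = r * ψ ω := by rw [← hω, map_smul, smul_eq_mul]

/-- Linear maps into a reflexive module form a reflexive module. -/
theorem isReflexive_linearMap (R : Type u) [CommRing R] [IsDomain R] [IsNoetherianRing R]
    (M : Type v) [AddCommGroup M] [Module R M] [Module.Finite R M]
    (N : Type w) [AddCommGroup N] [Module R N] [Module.Finite R N] [IsReflexive R N] :
    IsReflexive R (M →ₗ[R] N) := by
  have := isReflexive_dual R (TensorProduct R M (Dual R N))
  exact equiv ((TensorProduct.lift.equiv (RingHom.id R) M (Dual R N) R).symm.trans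
    (LinearEquiv.congrRight (evalEquiv R N).symm))

end GrothLib.HomSh
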