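import Groth.Agent.Lib.HomSh.Coherent
import Groth.Agent.Lib.HomSh.Reflexive

/-!
# Reflexivity of modules through their stalks
-/

universe u

open CategoryTheory CategoryTheory.Limits Opposite AlgebraicGeometry TopologicalSpace

namespace GrothLib.HomSh

open GrothLib.QCoh (stalkLin stalkLin_germ)

variable {X : Scheme.{u}}

/-- `germ 1` identifies the stalk of the structure module with the local ring. -/
noncomputable def unitStalk (x : X) :
    X.presheaf.stalk x ≃ₗ[X.presheaf.stalk x] (Coh.structureModule X).presheaf.stalk x :=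
  LinearEquiv.ofBijective
    (LinearMap.toSpanSingleton (X.presheaf.stalk x) _
      ((Coh.structureModule X).presheaf.germ ⊤ x trivial (1 : Γ(X, ⊤))))
    ⟨(injective_iff_map_eq_zero _).2 fun c hc => unit_germ_smul_injective x c hc, fun v => by
      obtain ⟨V, hV, s, rfl⟩ := TopCat.Presheaf.exists_germ_eq (Coh.structureModule X).presheaf v
      refine ⟨X.presheaf.germ V x hV s, ?_⟩
      rw [LinearMap.toSpanSingleton_apply,
        ← TopCat.Presheaf.germ_res_apply (Coh.structureModule X).presheaf (homOfLE le_top) x hV, ← Mero.germ_smul]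
      refine congrArg ((Coh.structureModule X).presheaf.germ V x hV) ?_
      let r : Γ(X, V) := s
      show r * X.presheaf.map (homOfLE le_top).op (1 : Γ(X, ⊤)) = r
      exact (congrArg (r * ·) (map_one _)).trans (mul_one r)⟩

/-- The locus where a morphism between such modules is bijective on stalks is open. -/
theorem isOpen_bijective_stalk {M N : X.Modules} (hM : HasRel M) (hN : HasRel N) (φ : M ⟶ N) :
    IsOpen {x | Function.Bijective (stalkLin φ x)} := by
  refine isOpen_iff_forall_mem_open.2 fun x hx => ?_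
  obtain ⟨θ, hθ⟩ := (hN.evalStalk_bijective M x).2 (LinearEquiv.ofBijective (stalkLin φ x) hx).symm.toLinearMap
  obtain ⟨U, hxU, g, rfl⟩ := TopCat.Presheaf.exists_germ_eq (RefHull.homSh N M).presheaf θ
  rw [RefHull.evalStalk_germ] at hθ
  obtain ⟨W, ι, _, κ, _, m, a, hxW, hgen, -⟩ := hM x
  obtain ⟨W', ι', _, κ', _, n, a', hxW', hgen', -⟩ := hN x
  have hgm : ∀ i, ∃ (V : X.Opens) (hV : V ≤ W ⊓ U), x ∈ V ∧ ∀ y : V,
      g.1 ⟨y.1, (hV y.2).2⟩ (stalkLin φ y.1 (M.presheaf.germ W y.1 (hV y.2).1 (m i))) =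
        M.presheaf.germ W y.1 (hV y.2).1 (m i) := fun i => by
    obtain ⟨V, hxV, j, t, ht⟩ := RefHull.isLocSect_of_mem g (W ⊓ U) (homOfLE inf_le_right)
      (φ.app _ (M.presheaf.map (homOfLE (inf_le_left : W ⊓ U ≤ W)).op (m i))) ⟨x, hxW, hxU⟩
    have h0 : M.presheaf.germ V x hxV (t - M.presheaf.map (j ≫ homOfLE inf_le_left).op (m i)) = 0 := by
      rw [map_sub, sub_eq_zero, TopCat.Presheaf.germ_res_apply]
      have := ht ⟨x, hxV⟩
      dsimp only at this
      rw [← this, show g.1 ⟨x, _⟩ = _ from hθ, ← stalkLin_germ, TopCat.Presheaf.germ_res_apply]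
      exact (LinearEquiv.ofBijective (stalkLin φ x) hx).symm_apply_apply _
    obtain ⟨V', hV', hxV', hz⟩ := exists_nhd_zero M hxV (fun _ : Unit => _) fun _ => h0
    refine ⟨V', hV'.trans j.le, hxV', fun y => ?_⟩
    have := ht ⟨y.1, hV' y.2⟩
    dsimp only at this
    rw [← stalkLin_germ, TopCat.Presheaf.germ_res_apply] at this
    refine this.trans ?_
    have e := congrArg (M.presheaf.germ V' y.1 y.2) (hz ())
    rw [map_zero, TopCat.Presheaf.germ_res_apply, map_sub, sub_eq_zero, TopCat.Presheaf.germ_res_apply] at e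
    exact e
  have hgn : ∀ i, ∃ (V : X.Opens) (hV : V ≤ W' ⊓ U), x ∈ V ∧ ∀ y : V,
      stalkLin φ y.1 (g.1 ⟨y.1, (hV y.2).2⟩ (N.presheaf.germ W' y.1 (hV y.2).1 (n i))) =
        N.presheaf.germ W' y.1 (hV y.2).1 (n i) := fun i => by
    obtain ⟨V, hxV, j, t, ht⟩ := RefHull.isLocSect_of_mem g (W' ⊓ U) (homOfLE inf_le_right)
      (N.presheaf.map (homOfLE (inf_le_left : W' ⊓ U ≤ W')).op (n i)) ⟨x, hxW', hxU⟩
    have h0 : N.presheaf.germ V x hxV (φ.app V t - N.presheaf.map (j ≫ homOfLE inf_le_left).op (n i)) = 0 := by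
      rw [map_sub, sub_eq_zero, TopCat.Presheaf.germ_res_apply, ← stalkLin_germ]
      have := ht ⟨x, hxV⟩
      dsimp only at this
      rw [← this, show g.1 ⟨x, _⟩ = _ from hθ, TopCat.Presheaf.germ_res_apply]
      exact (LinearEquiv.ofBijective (stalkLin φ x) hx).apply_symm_apply _
    obtain ⟨V', hV', hxV', hz⟩ := exists_nhd_zero N hxV (fun _ : Unit => _) fun _ => h0
    refine ⟨V', hV'.trans j.le, hxV', fun y => ?_⟩
    have := ht ⟨y.1, hV' y.2⟩
    dsimp only at this
    rw [TopCat.Presheaf.germ_res_apply] at this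
    rw [this, stalkLin_germ]
    have e := congrArg (N.presheaf.germ V' y.1 y.2) (hz ())
    rw [map_zero, TopCat.Presheaf.germ_res_apply, map_sub, sub_eq_zero, TopCat.Presheaf.germ_res_apply] at e
    exact e
  choose V hV hxV hVeq using hgm
  choose V₂ hV₂ hxV₂ hV₂eq using hgn
  refine ⟨(⋂ i, (V i : Set X)) ∩ (⋂ i, (V₂ i : Set X)) ∩ ((W ⊓ W' ⊓ U : X.Opens) : Set X), fun y hy => ?_,
    ((isOpen_iInter_of_finite fun i => (V i).isOpen).inter (isOpen_iInter_of_finite fun i => (V₂ i).isOpen)).inter
      (W ⊓ W' ⊓ U).isOpen, ⟨Set.mem_iInter.2 hxV, Set.mem_iInter.2 hxV₂⟩, ⟨hxW, hxW'⟩, hxU⟩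
  have h1 : (g.1 ⟨y, hy.2.2⟩).comp (stalkLin φ y) = LinearMap.id :=
    LinearMap.ext_on_range (hgen y hy.2.1.1) fun i => hVeq i ⟨y, Set.mem_iInter.1 hy.1.1 i⟩
  have h2 : (stalkLin φ y).comp (g.1 ⟨y, hy.2.2⟩) = LinearMap.id :=
    LinearMap.ext_on_range (hgen' y hy.2.1.2) fun i => hV₂eq i ⟨y, Set.mem_iInter.1 hy.1.2 i⟩
  exact ⟨Function.LeftInverse.injective (LinearMap.congr_fun h1), Function.RightInverse.surjective (LinearMap.congr_fun h2)⟩

theorem evalStalk_bidual (F : X.Modules) (x : X) (v : F.presheaf.stalk x) :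
    RefHull.evalStalk (RefHull.dual F) (Coh.structureModule X) x (stalkLin (RefHull.bidualMap F) x v) =
      RefHull.bidualAt F x v := by
  obtain ⟨U, hx, s, rfl⟩ := TopCat.Presheaf.exists_germ_eq F.presheaf v
  rw [stalkLin_germ, RefHull.evalStalk_germ]
  rfl

variable [IsLocallyNoetherian X]

theorem hasRel_dual {F : X.Modules} (hF : HasRel F) : HasRel (RefHull.dual F) :=
  hasRel_homSh hF (isCoh_structureModule X)

/-- The biduality map is bijective at `x` iff the stalk there is reflexive. -/
theorem bijective_bidual_iff {F : X.Modules} (hF : HasRel F) (x : X) :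
    Function.Bijective (stalkLin (RefHull.bidualMap F) x) ↔ RefHull.IsReflexiveAt F x := by
  let O := X.presheaf.stalk x
  let E : (RefHull.dual F).presheaf.stalk x ≃ₗ[O] Module.Dual O (F.presheaf.stalk x) :=
    (LinearEquiv.ofBijective _ (hF.evalStalk_bijective (Coh.structureModule X) x)).trans
      (LinearEquiv.congrRight (unitStalk x).symm)
  let Ψ : Module.Dual O (Module.Dual O (F.presheaf.stalk x)) ≃ₗ[O]
      RefHull.StalkHom (RefHull.dual F) (Coh.structureModule X) x :=
    LinearEquiv.arrowCongr E.symm (unitStalk x)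
  have h : (RefHull.bidualAt F x : F.presheaf.stalk x → _) = Ψ ∘ Module.Dual.eval O (F.presheaf.stalk x) := by
    funext v
    refine LinearMap.ext fun θ => ?_
    simp only [Function.comp_apply, Ψ, LinearEquiv.arrowCongr_apply, LinearEquiv.symm_symm,
      Module.Dual.eval_apply, RefHull.bidualAt_apply]
    exact ((unitStalk x).apply_symm_apply _).symm
  have he : (RefHull.bidualAt F x : F.presheaf.stalk x → _) =
      RefHull.evalStalk (RefHull.dual F) (Coh.structureModule X) x ∘ stalkLin (RefHull.bidualMap F) x :=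
    funext fun v => (evalStalk_bidual F x v).symm
  have hb := (hasRel_dual hF).evalStalk_bijective (Coh.structureModule X) x
  constructor
  · intro hbij
    refine ⟨(Ψ.bijective.of_comp_iff' _).1 ?_⟩
    rw [← h, he]
    exact hb.comp hbij
  · intro (hr : Module.IsReflexive O (F.presheaf.stalk x))
    refine (hb.of_comp_iff' _).1 ?_
    rw [← he, h]
    exact Ψ.bijective.comp (Module.bijective_dual_eval O (F.presheaf.stalk x))

/-- A module is reflexive iff the biduality map is bijective on all stalks. -/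
theorem isReflexive_iff {F : X.Modules} (hF : HasRel F) :
    RefHull.IsReflexive F ↔ ∀ x, RefHull.IsReflexiveAt F x := by
  rw [RefHull.IsReflexive, GrothLib.OX.isIso_iff]
  refine forall_congr' fun x => ?_
  rw [← bijective_bidual_iff hF x, ConcreteCategory.isIso_iff_bijective]
  rfl

theorem isOpen_isReflexiveAt {F : X.Modules} (hF : HasRel F) : IsOpen {x | RefHull.IsReflexiveAt F x} := by
  simpa only [← bijective_bidual_iff hF] using
    isOpen_bijective_stalk hF (hasRel_dual (hasRel_dual hF)) (RefHull.bidualMap F)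

/-- The sheaf Hom into a reflexive module is reflexive. -/
theorem isReflexive_homSh [IsIntegral X] {F G : X.Modules} (hF : HasRel F) (hG : Coh.IsCoh G)
    (hGr : RefHull.IsReflexive G) : RefHull.IsReflexive (RefHull.homSh F G) := by
  rw [isReflexive_iff (hasRel_homSh hF hG)]
  intro x
  have := (isReflexive_iff (hasRel_of_isCoh hG)).1 hGr x
  have := hF.span_stalk x
  have := (hasRel_of_isCoh hG).span_stalk x
  have : Module.IsReflexive (X.presheaf.stalk x) (G.presheaf.stalk x) :=
    (isReflexive_iff (hasRel_of_isCoh hG)).1 hGr x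
  have := isReflexive_linearMap (X.presheaf.stalk x) (F.presheaf.stalk x) (G.presheaf.stalk x)
  exact Module.equiv (LinearEquiv.ofBijective _ (hF.evalStalk_bijective G x)).symm

end GrothLib.HomSh
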