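import Groth.Prelude.Def_RefHull
import Groth.Agent.Lib.HomSh.Gen

/-!
# The stalks of the sheaf Hom and the Hom of the stalks
-/

universe u

open CategoryTheory CategoryTheory.Limits Opposite AlgebraicGeometry TopologicalSpace

namespace GrothLib.HomSh

variable {X : Scheme.{u}}

/-- A finite family of sections with vanishing germs at `x` vanishes on a common neighbourhood. -/
theorem exists_nhd_zero (G : X.Modules) {x : X} {W : X.Opens} (hx : x ∈ W) {ι : Type*} [Finite ι]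
    (t : ι → Γ(G, W)) (ht : ∀ i, G.presheaf.germ W x hx (t i) = 0) :
    ∃ (W' : X.Opens) (hW : W' ≤ W), x ∈ W' ∧ ∀ i, G.presheaf.map (homOfLE hW).op (t i) = 0 := by
  have : ∀ i, ∃ (W' : X.Opens) (hW : W' ⟶ W), x ∈ W' ∧ G.presheaf.map hW.op (t i) = 0 := fun i => by
    obtain ⟨W', hxW', i₁, i₂, e⟩ := TopCat.Presheaf.germ_eq G.presheaf x hx hx (t i) 0
      ((ht i).trans (map_zero _).symm)
    exact ⟨W', i₁, hxW', by rw [e, map_zero]⟩
  choose V iV hxV hV using this
  let W' : X.Opens := ⟨(⋂ i, (V i : Set X)) ∩ W, (isOpen_iInter_of_finite fun i => (V i).isOpen).inter W.isOpen⟩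
  refine ⟨W', Set.inter_subset_right, ⟨Set.mem_iInter.2 hxV, hx⟩, fun i => ?_⟩
  have hle : W' ≤ V i := fun y hy => Set.mem_iInter.1 hy.1 i
  have := congrArg (G.presheaf.map (homOfLE hle).op) (hV i)
  rw [map_zero, Cohom.map_map_apply] at this
  exact this

variable (F G : X.Modules)

/-- Evaluation `Hom(F, G)_x → Hom(F_x, G_x)` is injective when finitely many sections generate near `x`. -/
theorem evalStalk_injective_of_genOn {x : X} {W : X.Opens} (hxW : x ∈ W) {ι : Type u} [Fintype ι]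
    {m : ι → Γ(F, W)} (hgen : GenOn F W m) : Function.Injective (RefHull.evalStalk F G x) := by
  rw [injective_iff_map_eq_zero]
  intro θ hθ
  obtain ⟨U, hxU, g, rfl⟩ := TopCat.Presheaf.exists_germ_eq (RefHull.homSh F G).presheaf θ
  rw [RefHull.evalStalk_germ] at hθ
  have hn : ∀ i, ∃ (V : X.Opens) (hV : V ≤ W ⊓ U) (n : Γ(G, V)), x ∈ V ∧ G.presheaf.map (homOfLE le_rfl).op n = 0 ∧
      ∀ y : V, g.1 ⟨y.1, (hV y.2).2⟩ (F.presheaf.germ W y.1 (hV y.2).1 (m i)) = G.presheaf.germ V y.1 y.2 n := by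
    intro i
    obtain ⟨V, hxV, j, n, hV⟩ := RefHull.isLocSect_of_mem g (W ⊓ U) (homOfLE inf_le_right)
      (F.presheaf.map (homOfLE (inf_le_left : W ⊓ U ≤ W)).op (m i)) ⟨x, hxW, hxU⟩
    have h0 : G.presheaf.germ V x hxV n = 0 := by
      have := hV ⟨x, hxV⟩
      dsimp only at this
      rw [← this, show g.1 ⟨x, _⟩ = 0 from hθ]
      rfl
    obtain ⟨V', hV', hxV', hz⟩ := exists_nhd_zero G hxV (fun _ : Unit => n) fun _ => h0
    refine ⟨V', hV'.trans j.le, G.presheaf.map (homOfLE hV').op n, hxV', ?_, fun y => ?_⟩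
    · rw [Cohom.map_map_apply]
      exact hz ()
    · have := hV ⟨y.1, hV' y.2⟩
      dsimp only at this
      rw [TopCat.Presheaf.germ_res_apply] at this
      rw [TopCat.Presheaf.germ_res_apply]
      exact this
  choose V hV n hxV hn0 hgn using hn
  let U' : X.Opens := ⟨(⋂ i, (V i : Set X)) ∩ (W ⊓ U : X.Opens),
    (isOpen_iInter_of_finite fun i => (V i).isOpen).inter (W ⊓ U).isOpen⟩
  have hxU' : x ∈ U' := ⟨Set.mem_iInter.2 hxV, hxW, hxU⟩
  have hle : U' ≤ U := fun y hy => hy.2.2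
  rw [← TopCat.Presheaf.germ_res_apply (RefHull.homSh F G).presheaf (homOfLE hle) x hxU' g]
  have : (RefHull.homSh F G).presheaf.map (homOfLE hle).op g = 0 := by
    refine Subtype.ext (funext fun y => ?_)
    show g.1 ⟨y.1, hle y.2⟩ = 0
    refine LinearMap.ext_on_range (hgen y.1 y.2.2.1) fun i => ?_
    have hy : y.1 ∈ V i := Set.mem_iInter.1 y.2.1 i
    have := hgn i ⟨y.1, hy⟩
    dsimp only at this
    rw [this, LinearMap.zero_apply, ← TopCat.Presheaf.germ_res_apply G.presheaf (homOfLE (le_refl (V i))) y.1 hy (n i),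
      hn0 i, map_zero]
  rw [this, map_zero]

/-- Evaluation `Hom(F, G)_x → Hom(F_x, G_x)` is injective for `F` locally generated by finitely many sections. -/
theorem evalStalk_injective (hF : CohB1.IsFT F) (x : X) : Function.Injective (RefHull.evalStalk F G x) := by
  obtain ⟨W, ι, _, m, hxW, hgen⟩ := exists_genOn F hF x
  exact evalStalk_injective_of_genOn F G hxW hgen

/-- `a` lists relations between the sections `m` which generate all relations at each point of `W`. -/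
def RelOn {W : X.Opens} {ι κ : Type u} [Fintype ι] (m : ι → Γ(F, W)) (a : κ → ι → Γ(X, W)) : Prop :=
  ∀ (y : X) (hy : y ∈ W),
    (∀ k, ∑ i, X.presheaf.germ W y hy (a k i) • F.presheaf.germ W y hy (m i) = 0) ∧
      ∀ c : ι → X.presheaf.stalk y, ∑ i, c i • F.presheaf.germ W y hy (m i) = 0 →
        c ∈ Submodule.span (X.presheaf.stalk y) (Set.range fun k i => X.presheaf.germ W y hy (a k i))

/-- Sections of `G` satisfying the relations define a section of the sheaf Hom. -/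
theorem exists_section_of_relOn {W : X.Opens} {ι κ : Type u} [Fintype ι] {m : ι → Γ(F, W)}
    {a : κ → ι → Γ(X, W)} (hgen : GenOn F W m) (hrel : RelOn F m a) {W₁ W₂ : X.Opens} (hW₁ : W₁ ≤ W)
    (hW₂ : W₂ ≤ W₁) (n₁ : ι → Γ(G, W₁))
    (hz : ∀ k, G.presheaf.map (homOfLE hW₂).op (∑ i, X.presheaf.map (homOfLE hW₁).op (a k i) • n₁ i) = 0) :
    ∃ g : Γ(RefHull.homSh F G, W₂), ∀ (y : X) (hy : y ∈ W₂) (i : ι),
      g.1 ⟨y, hy⟩ (F.presheaf.germ W y (hW₁ (hW₂ hy)) (m i)) = G.presheaf.germ W₁ y (hW₂ hy) (n₁ i) := by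
  classical
  let K : ∀ y : W₂, (ι → X.presheaf.stalk y.1) →ₗ[X.presheaf.stalk y.1] F.presheaf.stalk y.1 := fun y =>
    Fintype.linearCombination (X.presheaf.stalk y.1) fun i => F.presheaf.germ W y.1 (hW₁ (hW₂ y.2)) (m i)
  let L : ∀ y : W₂, (ι → X.presheaf.stalk y.1) →ₗ[X.presheaf.stalk y.1] G.presheaf.stalk y.1 := fun y =>
    Fintype.linearCombination (X.presheaf.stalk y.1) fun i => G.presheaf.germ W₁ y.1 (hW₂ y.2) (n₁ i)
  have hK : ∀ y, Function.Surjective (K y) := fun y => by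
    rw [← LinearMap.range_eq_top, Fintype.range_linearCombination]
    exact hgen y.1 _
  have hKL : ∀ y, LinearMap.ker (K y) ≤ LinearMap.ker (L y) := fun y c hc => by
    have hc' := (hrel y.1 (hW₁ (hW₂ y.2))).2 c hc
    refine (Submodule.span_le.2 ?_) hc'
    rintro _ ⟨k, rfl⟩
    have := congrArg (G.presheaf.germ W₂ y.1 y.2) (hz k)
    rw [map_zero, TopCat.Presheaf.germ_res_apply, map_sum] at this
    rw [SetLike.mem_coe, LinearMap.mem_ker]
    refine Eq.trans ?_ this
    show ∑ i, _ • _ = _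
    refine Finset.sum_congr rfl fun i _ => ?_
    dsimp only
    rw [Mero.germ_smul]
    congr 1
    exact (TopCat.Presheaf.germ_res_apply X.presheaf _ _ _ _).symm
  let f : ∀ y : W₂, RefHull.StalkHom F G y.1 := fun y =>
    ((LinearMap.ker (K y)).liftQ (L y) (hKL y)).comp ((K y).quotKerEquivOfSurjective (hK y)).symm.toLinearMap
  have hf : ∀ y c, f y (K y c) = L y c := fun y c => by
    simp only [f, LinearMap.comp_apply, LinearEquiv.coe_coe]
    rw [show ((K y).quotKerEquivOfSurjective (hK y)).symm (K y c) = Submodule.Quotient.mk c from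
      (LinearEquiv.symm_apply_eq _).2 rfl]
    rfl
  have hloc : RefHull.IsLocSect F G f := by
    intro V' i' s y
    obtain ⟨c, hc⟩ := hK ⟨y.1, i'.le y.2⟩ (F.presheaf.germ V' y.1 y.2 s)
    choose Vc hVc r hr using fun i => TopCat.Presheaf.exists_germ_eq X.presheaf (c i)
    let W₃ : X.Opens := ⟨(⋂ i, (Vc i : Set X)) ∩ V', (isOpen_iInter_of_finite fun i => (Vc i).isOpen).inter V'.isOpen⟩
    have h3 : W₃ ≤ V' := fun z hz => hz.2
    have h3W : W₃ ≤ W := fun z hz => hW₁ (hW₂ (i'.le hz.2))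
    have h3W₁ : W₃ ≤ W₁ := fun z hz => hW₂ (i'.le hz.2)
    have hy3 : y.1 ∈ W₃ := ⟨Set.mem_iInter.2 hVc, y.2⟩
    let r' : ι → Γ(X, W₃) := fun i => X.presheaf.map (homOfLE (fun z hz => Set.mem_iInter.1 hz.1 i : W₃ ≤ Vc i)).op (r i)
    have hd : F.presheaf.germ W₃ y.1 hy3 (F.presheaf.map (homOfLE h3).op s -
        ∑ i, r' i • F.presheaf.map (homOfLE h3W).op (m i)) = 0 := by
      rw [map_sub, TopCat.Presheaf.germ_res_apply, ← hc, sub_eq_zero, map_sum]
      show ∑ i, _ • _ = _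
      refine Finset.sum_congr rfl fun i _ => ?_
      simp only [r']
      rw [Mero.germ_smul, TopCat.Presheaf.germ_res_apply, TopCat.Presheaf.germ_res_apply, hr]
    obtain ⟨W₄, hW₄, hy4, hz4⟩ := exists_nhd_zero F hy3 (fun _ : Unit => _) fun _ => hd
    refine ⟨W₄, hy4, homOfLE (hW₄.trans h3),
      G.presheaf.map (homOfLE hW₄).op (∑ i, r' i • G.presheaf.map (homOfLE h3W₁).op (n₁ i)), fun z => ?_⟩
    have hz' := congrArg (F.presheaf.germ W₄ z.1 z.2) (hz4 ())
    rw [map_zero, TopCat.Presheaf.germ_res_apply, map_sub, TopCat.Presheaf.germ_res_apply, sub_eq_zero] at hz'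
    rw [hz', TopCat.Presheaf.germ_res_apply, map_sum, map_sum]
    have e := hf ⟨z.1, i'.le ((hW₄.trans h3) z.2)⟩ fun i => X.presheaf.germ W₃ z.1 (hW₄ z.2) (r' i)
    simp only [K, L, Fintype.linearCombination_apply] at e
    rw [map_sum] at e
    simp only [Mero.germ_smul, TopCat.Presheaf.germ_res_apply, map_sum]
    exact e
  refine ⟨⟨f, hloc⟩, fun y hy i => ?_⟩
  have := hf ⟨y, hy⟩ (Pi.single i 1)
  simp only [K, L, Fintype.linearCombination_apply_single, one_smul] at this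
  exact this

/-- Evaluation is surjective when `F` has a finite presentation near `x`. -/
theorem evalStalk_surjective_of_relOn {x : X} {W : X.Opens} (hxW : x ∈ W) {ι κ : Type u} [Fintype ι]
    [Finite κ] {m : ι → Γ(F, W)} {a : κ → ι → Γ(X, W)} (hgen : GenOn F W m) (hrel : RelOn F m a) :
    Function.Surjective (RefHull.evalStalk F G x) := by
  classical
  intro φ
  have hn : ∀ i, ∃ (V : X.Opens) (_ : V ≤ W) (hxV : x ∈ V) (n : Γ(G, V)),
      G.presheaf.germ V x hxV n = φ (F.presheaf.germ W x hxW (m i)) := fun i => by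
    obtain ⟨V, hxV, n, hn⟩ := TopCat.Presheaf.exists_germ_eq G.presheaf (φ (F.presheaf.germ W x hxW (m i)))
    exact ⟨V ⊓ W, inf_le_right, ⟨hxV, hxW⟩, G.presheaf.map (homOfLE inf_le_left).op n, by
      rw [TopCat.Presheaf.germ_res_apply]; exact hn⟩
  choose V hV hxV n hn using hn
  let W₁ : X.Opens := ⟨(⋂ i, (V i : Set X)) ∩ W, (isOpen_iInter_of_finite fun i => (V i).isOpen).inter W.isOpen⟩
  have hxW₁ : x ∈ W₁ := ⟨Set.mem_iInter.2 hxV, hxW⟩
  have hW₁ : W₁ ≤ W := fun y hy => hy.2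
  let n₁ : ι → Γ(G, W₁) := fun i => G.presheaf.map (homOfLE (fun y hy => Set.mem_iInter.1 hy.1 i : W₁ ≤ V i)).op (n i)
  have hn₁ : ∀ i, G.presheaf.germ W₁ x hxW₁ (n₁ i) = φ (F.presheaf.germ W x hxW (m i)) := fun i => by
    simp only [n₁]
    rw [TopCat.Presheaf.germ_res_apply]
    exact hn i
  have hzero : ∀ k, G.presheaf.germ W₁ x hxW₁ (∑ i, X.presheaf.map (homOfLE hW₁).op (a k i) • n₁ i) = 0 := by
    intro k
    rw [map_sum]
    calc _ = ∑ i, X.presheaf.germ W x hxW (a k i) • φ (F.presheaf.germ W x hxW (m i)) := by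
          refine Finset.sum_congr rfl fun i _ => ?_
          rw [Mero.germ_smul, TopCat.Presheaf.germ_res_apply, hn₁]
      _ = φ (∑ i, X.presheaf.germ W x hxW (a k i) • F.presheaf.germ W x hxW (m i)) := by
          simp only [map_sum, map_smul]
      _ = 0 := by rw [(hrel x hxW).1 k, map_zero]
  obtain ⟨W₂, hW₂, hxW₂, hz⟩ := exists_nhd_zero G hxW₁ _ hzero
  obtain ⟨g, hg⟩ := exists_section_of_relOn F G hgen hrel hW₁ hW₂ n₁ hz
  refine ⟨(RefHull.homSh F G).presheaf.germ W₂ x hxW₂ g, ?_⟩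
  rw [RefHull.evalStalk_germ]
  refine LinearMap.ext_on_range (hgen x hxW) fun i => ?_
  rw [← hn₁ i]
  exact hg x hxW₂ i

end GrothLib.HomSh
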