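import Groth.Agent.Lib.HomSh.Eval
import Groth.Agent.Lib.QCoh.SupportExact
import Groth.Agent.Lib.QCoh.FT

/-!
# Finitely presented modules: generators and relations near a point
-/

universe u

open CategoryTheory CategoryTheory.Limits Opposite AlgebraicGeometry TopologicalSpace

namespace GrothLib.HomSh

open GrothLib.QCoh (stalkLin stalkLin_germ)

variable {Y : Scheme.{u}}

theorem germ_section {N : Y.Modules} (s : N.sections) {V : Y.Opens} {y : Y} (hy : y ∈ V) :
    N.presheaf.germ V y hy (s.val (op V)) = N.presheaf.germ ⊤ y trivial (s.val (op ⊤)) := by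
  have e : s.val (op V) = N.presheaf.map (homOfLE le_top).op (s.val (op ⊤)) :=
    (s.property (homOfLE (le_top (a := V))).op).symm
  rw [e]
  exact TopCat.Presheaf.germ_res_apply N.presheaf _ _ _ _

theorem app_section {M N : Y.Modules} (f : M ⟶ N) (s : M.sections) (V : Y.Opens) :
    f.app V (s.val (op V)) = (SheafOfModules.sectionsMap f s).val (op V) := rfl

theorem unit_germ_smul_injective (y : Y) (c : Y.presheaf.stalk y)
    (h : c • (Coh.structureModule Y).presheaf.germ ⊤ y trivial (1 : Γ(Y, ⊤)) = 0) : c = 0 := by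
  obtain ⟨V, hy, r, rfl⟩ := TopCat.Presheaf.exists_germ_eq Y.presheaf c
  rw [← TopCat.Presheaf.germ_res_apply (Coh.structureModule Y).presheaf (homOfLE le_top) y hy,
    ← Mero.germ_smul] at h
  obtain ⟨W, hW, i₁, i₂, e⟩ := TopCat.Presheaf.germ_eq (Coh.structureModule Y).presheaf y hy hy _ 0
    (h.trans (map_zero _).symm)
  have hr : (r • (Coh.structureModule Y).presheaf.map (homOfLE le_top).op (1 : Γ(Y, ⊤)) :
      Γ(Coh.structureModule Y, V)) = r := by
    show r * Y.presheaf.map (homOfLE le_top).op (1 : Γ(Y, ⊤)) = r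
    exact (congrArg (r * ·) (map_one _)).trans (mul_one r)
  rw [hr, map_zero] at e
  rw [← TopCat.Presheaf.germ_res_apply Y.presheaf i₁ y hW r, show Y.presheaf.map i₁.op r = 0 from e, map_zero]

/-- Generators and relations of a module with a finite presentation, near a point. -/
theorem exists_relOn_of_presentation {N : Y.Modules} (P : N.Presentation) [P.IsFinite] (x : Y) :
    ∃ (W : Y.Opens) (ι : Type u) (_ : Fintype ι) (κ : Type u) (_ : Fintype κ) (m : ι → Γ(N, W))
      (a : κ → ι → Γ(Y, W)), x ∈ W ∧ GenOn N W m ∧ RelOn N m a := by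
  classical
  let I := P.generators.I
  let J := P.relations.I
  have : Finite I := SheafOfModules.GeneratingSections.IsFiniteType.finite
  have : Finite J := SheafOfModules.GeneratingSections.IsFiniteType.finite
  let _ : Fintype I := Fintype.ofFinite _
  let _ : Fintype J := Fintype.ofFinite _
  let Fr : Y.Modules := SheafOfModules.free I
  let π : Fr ⟶ N := P.generators.π
  let e : I → Γ(Fr, ⊤) := fun i => (SheafOfModules.freeSection i).val (op ⊤)
  let G0 : SheafOfModules.GeneratingSections.{u} Fr :=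
    { I := I, s := SheafOfModules.freeSection, epi := by
        have h : (Fr.freeHomEquiv.symm fun i => SheafOfModules.freeSection (R := Y.ringCatSheaf) i) = 𝟙 Fr :=
          Fr.freeHomEquiv.symm_apply_apply (𝟙 _)
        rw [h]; infer_instance }
  have hπ : ∀ i, π.app ⊤ (e i) = (P.generators.s i).val (op ⊤) := fun i => by
    refine congrArg (fun s : N.sections => s.val (op ⊤)) ((SheafOfModules.freeHomEquiv_apply π i).symm.trans ?_)
    exact congrFun (N.freeHomEquiv.apply_symm_apply P.generators.s) i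
  let r : J → Γ(Fr, ⊤) := fun k => (SheafOfModules.sectionsMap (kernel.ι π) (P.relations.s k)).val (op ⊤)
  have hc : ∀ k, ∃ c : I → Y.presheaf.stalk x,
      ∑ i, c i • Fr.presheaf.germ ⊤ x trivial (e i) = Fr.presheaf.germ ⊤ x trivial (r k) := fun k =>
    (Submodule.mem_span_range_iff_exists_fun _).1 ((span_germ_eq_top G0 x).ge Submodule.mem_top)
  choose c hc using hc
  choose Vc hVc ac hac using fun k i => TopCat.Presheaf.exists_germ_eq Y.presheaf (c k i)
  let W₀ : Y.Opens := ⟨⋂ ki : J × I, (Vc ki.1 ki.2 : Set Y), isOpen_iInter_of_finite fun ki => (Vc ki.1 ki.2).isOpen⟩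
  have hx₀ : x ∈ W₀ := Set.mem_iInter.2 fun ki => hVc ki.1 ki.2
  let a₀ : J → I → Γ(Y, W₀) := fun k i =>
    Y.presheaf.map (homOfLE (fun z hz => Set.mem_iInter.1 hz (k, i) : W₀ ≤ Vc k i)).op (ac k i)
  obtain ⟨W, hW, hxW, hz⟩ := exists_nhd_zero Fr hx₀
    (fun k => Fr.presheaf.map (homOfLE le_top).op (r k) - ∑ i, a₀ k i • Fr.presheaf.map (homOfLE le_top).op (e i))
    fun k => by
      rw [map_sub, map_sum, TopCat.Presheaf.germ_res_apply, sub_eq_zero, ← hc k]
      refine Finset.sum_congr rfl fun i _ => ?_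
      simp only [a₀]
      rw [Mero.germ_smul, TopCat.Presheaf.germ_res_apply, TopCat.Presheaf.germ_res_apply, hac]
  let m : I → Γ(N, W) := fun i => N.presheaf.map (homOfLE le_top).op ((P.generators.s i).val (op ⊤))
  let a : J → I → Γ(Y, W) := fun k i => Y.presheaf.map (homOfLE hW).op (a₀ k i)
  have hrel : ∀ (y : Y) (hy : y ∈ W) (k : J), Fr.presheaf.germ ⊤ y trivial (r k) =
      ∑ i, Y.presheaf.germ W y hy (a k i) • Fr.presheaf.germ ⊤ y trivial (e i) := fun y hy k => by
    have := congrArg (Fr.presheaf.germ W y hy) (hz k)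
    rw [map_zero, TopCat.Presheaf.germ_res_apply, map_sub, map_sum, sub_eq_zero,
      TopCat.Presheaf.germ_res_apply] at this
    rw [this]
    refine Finset.sum_congr rfl fun i _ => ?_
    rw [Mero.germ_smul, TopCat.Presheaf.germ_res_apply]
    congr 1 <;> simp only [a, a₀, TopCat.Presheaf.germ_res_apply]
  have hm : ∀ (y : Y) (hy : y ∈ W) (i : I),
      N.presheaf.germ W y hy (m i) = stalkLin π y (Fr.presheaf.germ ⊤ y trivial (e i)) := fun y hy i => by
    simp only [m]
    rw [TopCat.Presheaf.germ_res_apply, stalkLin_germ, hπ]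
  refine ⟨W, I, inferInstance, J, inferInstance, m, a, hxW, fun y hy => ?_, fun y hy => ⟨fun k => ?_, fun d hd => ?_⟩⟩
  · rw [← span_germ_eq_top P.generators y]
    congr 2
    funext i
    simp only [m]
    exact TopCat.Presheaf.germ_res_apply N.presheaf _ _ _ _
  · have h0 : stalkLin π y (Fr.presheaf.germ ⊤ y trivial (r k)) = 0 := by
      have e1 : Fr.presheaf.germ ⊤ y trivial (r k) = stalkLin (kernel.ι π) y
          ((kernel π).presheaf.germ ⊤ y trivial ((P.relations.s k).val (op ⊤))) :=
        (stalkLin_germ _ _ _).symm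
      rw [e1, ← GrothLib.QCoh.stalkLin_comp, kernel.condition]
      exact LinearMap.congr_fun (congrArg ModuleCat.Hom.hom ((OX.stalk y).map_zero _ N)) _
    rw [hrel y hy k, map_sum] at h0
    refine Eq.trans ?_ h0
    refine Finset.sum_congr rfl fun i _ => ?_
    rw [map_smul, hm]
  · let z := ∑ i, d i • Fr.presheaf.germ ⊤ y trivial (e i)
    have hz0 : stalkLin π y z = 0 := by
      refine Eq.trans ?_ hd
      simp only [z, map_sum]
      exact Finset.sum_congr rfl fun i _ => by rw [map_smul, hm]
    have hex := (OX.exact_iff (ShortComplex.mk (kernel.ι π) π (kernel.condition π))).1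
      (ShortComplex.exact_of_f_is_kernel _ (kernelIsKernel π)) y
    rw [ShortComplex.moduleCat_exact_iff] at hex
    obtain ⟨w, hw⟩ := hex z hz0
    obtain ⟨b, hb⟩ := (Submodule.mem_span_range_iff_exists_fun _).1
      ((span_germ_eq_top P.relations y).ge (Submodule.mem_top (x := w)))
    have hz1 : z = ∑ k, b k • ∑ i, Y.presheaf.germ W y hy (a k i) • Fr.presheaf.germ ⊤ y trivial (e i) := by
      rw [← hw]
      show stalkLin (kernel.ι π) y w = _
      rw [← hb]
      refine (map_sum _ _ _).trans ?_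
      refine Finset.sum_congr rfl fun k _ => ?_
      refine (LinearMap.map_smul _ _ _).trans ?_
      rw [← hrel y hy k]
      exact congrArg (b k • ·) (stalkLin_germ _ _ _)
    refine (Submodule.mem_span_range_iff_exists_fun _).2 ⟨b, funext fun j => ?_⟩
    simp only [Finset.sum_apply, Pi.smul_apply, smul_eq_mul]
    let δ : I → (Coh.structureModule Y).sections := fun i =>
      if i = j then (Coh.structureModule Y).unitHomEquiv (𝟙 _) else
        (Coh.structureModule Y).unitHomEquiv 0
    let p : Fr ⟶ Coh.structureModule Y := (Coh.structureModule Y).freeHomEquiv.symm δ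
    have hp : ∀ i, stalkLin p y (Fr.presheaf.germ ⊤ y trivial (e i)) =
        if i = j then (Coh.structureModule Y).presheaf.germ ⊤ y trivial (1 : Γ(Y, ⊤)) else 0 := fun i => by
      rw [stalkLin_germ]
      have e1 : p.app ⊤ (e i) = (δ i).val (op ⊤) :=
        congrArg (fun s : (Coh.structureModule Y).sections => s.val (op ⊤))
          ((SheafOfModules.freeHomEquiv_apply p i).symm.trans
            (congrFun ((Coh.structureModule Y).freeHomEquiv.apply_symm_apply δ) i))
      rw [e1]
      simp only [δ]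
      split_ifs
      · rfl
      · exact map_zero _
    have e2 := congrArg (stalkLin p y) hz1
    simp only [z, map_sum, map_smul, hp, smul_ite, smul_zero, Finset.sum_ite_eq', Finset.mem_univ, if_true, smul_smul] at e2
    rw [← Finset.sum_smul] at e2
    refine sub_eq_zero.1 (unit_germ_smul_injective y _ ?_)
    rw [sub_smul, sub_eq_zero]
    exact e2.symm

variable {X : Scheme.{u}}

set_option backward.isDefEq.respectTransparency false in
/-- Presentations on a neighbourhood. -/
theorem exists_presentation_restrict (M : X.Modules) (hM : CohB1.IsFP M) (x : X) :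
    ∃ (W : X.Opens) (P : (M.restrict W.ι).Presentation), x ∈ W ∧ P.IsFinite := by
  obtain ⟨σ, hσ⟩ := hM.exists_quasicoherentData
  obtain ⟨i, hi⟩ := ((Opens.coversTop_iff _ σ.X).1 σ.coversTop).exists_mem x
  have : PreservesColimitsOfSize.{u, u} (Scheme.Modules.overEquiv (σ.X i)).functor :=
    (Scheme.Modules.overEquiv (σ.X i)).toAdjunction.leftAdjoint_preservesColimits
  let iso : SheafOfModules.overFunctor X.ringCatSheaf _ ⋙ (Scheme.Modules.overEquiv (σ.X i)).functor ≅
      Scheme.Modules.restrictFunctor (Scheme.Opens.ι (σ.X i)) := Scheme.Modules.overFunctorEquiv _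
  let η : SheafOfModules.unit ((σ.X i : Scheme.{u})).ringCatSheaf ≅
      (Scheme.Modules.overEquiv (σ.X i)).functor.obj (SheafOfModules.unit (X.ringCatSheaf.over (σ.X i))) :=
    (Scheme.Modules.restrictUnitIso (Scheme.Opens.ι (σ.X i))).symm ≪≫
      ((Scheme.Modules.overFunctorEquiv (σ.X i)).app _).symm
  have := hσ.isFinite_presentation i
  have hg : Finite (σ.presentation i).generators.I := SheafOfModules.GeneratingSections.IsFiniteType.finite
  have hr : Finite (σ.presentation i).relations.I := SheafOfModules.GeneratingSections.IsFiniteType.finite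
  exact ⟨σ.X i, SheafOfModules.Presentation.ofIsIso.{u, u, u} (iso.app M).hom
    ((σ.presentation i).map (Scheme.Modules.overEquiv (σ.X i)).functor η.symm), hi, ⟨⟨hg⟩, ⟨hr⟩⟩⟩

/-- Finitely many generators and relations near a point. -/
theorem exists_relOn (F : X.Modules) (hF : CohB1.IsFP F) (x : X) :
    ∃ (W : X.Opens) (ι : Type u) (_ : Fintype ι) (κ : Type u) (_ : Fintype κ) (m : ι → Γ(F, W))
      (a : κ → ι → Γ(X, W)), x ∈ W ∧ GenOn F W m ∧ RelOn F m a := by
  obtain ⟨U, P, hxU, hP⟩ := exists_presentation_restrict F hF x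
  obtain ⟨W, ι, _, κ, _, m, a, hxW, hgen, hrel⟩ := exists_relOn_of_presentation P (⟨x, hxU⟩ : (U : Scheme.{u}))
  refine ⟨U.ι ''ᵁ W, ι, inferInstance, κ, inferInstance, m, a, ⟨⟨x, hxU⟩, hxW, rfl⟩, ?_, ?_⟩ <;>
    rintro y ⟨y', hy', rfl⟩
  all_goals
    let φ : (F.restrict U.ι).presheaf.stalk y' →+ F.presheaf.stalk (U.ι y') :=
      ((Scheme.Modules.restrictStalkNatIso U.ι y').app F).hom.hom
    let ψ : (U : Scheme.{u}).presheaf.stalk y' →+* X.presheaf.stalk (U.ι y') := (U.stalkIso y').hom.hom
    have hφ : ∀ (V : (U : Scheme.{u}).Opens) (hV : y' ∈ V) (t : Γ(F.restrict U.ι, V)),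
        φ ((F.restrict U.ι).presheaf.germ V y' hV t) =
          F.presheaf.germ (U.ι ''ᵁ V) (U.ι y') ⟨y', hV, rfl⟩ t := fun V hV t =>
      ConcreteCategory.congr_hom
        (Scheme.Modules.germ_restrictStalkNatIso_hom_app U.ι y' F (U := V) hV) t
    have hψ : ∀ (V : (U : Scheme.{u}).Opens) (hV : y' ∈ V) (t : Γ(U, V)),
        ψ ((U : Scheme.{u}).presheaf.germ V y' hV t) =
          X.presheaf.germ (U.ι ''ᵁ V) (U.ι y') ⟨y', hV, rfl⟩ t := fun V hV t =>
      ConcreteCategory.congr_hom (Scheme.Opens.germ_stalkIso_hom U y' hV) t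
    have hsemi : ∀ (c : (U : Scheme.{u}).presheaf.stalk y') (z : (F.restrict U.ι).presheaf.stalk y'),
        φ (c • z) = ψ c • φ z := fun c z => by
      obtain ⟨V, hV, r, rfl⟩ := TopCat.Presheaf.exists_germ_eq (U : Scheme.{u}).presheaf c
      obtain ⟨V', hV', s, rfl⟩ := TopCat.Presheaf.exists_germ_eq (F.restrict U.ι).presheaf z
      have hW : y' ∈ V ⊓ V' := ⟨hV, hV'⟩
      rw [← TopCat.Presheaf.germ_res_apply (U : Scheme.{u}).presheaf (homOfLE (inf_le_left : V ⊓ V' ≤ V)) y' hW r,
        ← TopCat.Presheaf.germ_res_apply (F.restrict U.ι).presheaf (homOfLE (inf_le_right : V ⊓ V' ≤ V')) y' hW s,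
        ← WeakAss.germ_smul (F := F.restrict U.ι) hW, hφ, hφ, hψ]
      erw [WeakAss.germ_smul (F := F) (V := U.ι ''ᵁ (V ⊓ V')) (x := U.ι y') ⟨y', hW, rfl⟩]
      refine congrArg₂ (· • ·) (congrArg (X.presheaf.germ (U.ι ''ᵁ (V ⊓ V')) (U.ι y') ⟨y', hW, rfl⟩) ?_) rfl
      change ((U.ι.appIso (V ⊓ V')).inv).hom _ = _
      rw [Scheme.Opens.ι_appIso]
      rfl
    have hφbij : Function.Bijective φ :=
      ConcreteCategory.bijective_of_isIso ((Scheme.Modules.restrictStalkNatIso U.ι y').app F).hom
    have hψbij : Function.Bijective ψ := ConcreteCategory.bijective_of_isIso (U.stalkIso y').hom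
  · refine eq_top_iff.2 fun v _ => ?_
    obtain ⟨w, rfl⟩ := hφbij.2 v
    obtain ⟨c, hc⟩ := (Submodule.mem_span_range_iff_exists_fun _).1 ((hgen y' hy').ge (Submodule.mem_top (x := w)))
    refine (Submodule.mem_span_range_iff_exists_fun _).2 ⟨fun i => ψ (c i), ?_⟩
    rw [← hc, map_sum]
    exact Finset.sum_congr rfl fun i _ => by rw [hsemi, hφ]; rfl
  · obtain ⟨h1, h2⟩ := hrel y' hy'
    refine ⟨fun k => ?_, fun c hc => ?_⟩
    · have := congrArg φ (h1 k)
      rw [map_zero, map_sum] at this
      refine Eq.trans ?_ this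
      exact Finset.sum_congr rfl fun i _ => by rw [hsemi, hφ, hψ]; rfl
    · choose c' hc' using fun i => hψbij.2 (c i)
      have h0 : ∑ i, c' i • (F.restrict U.ι).presheaf.germ W y' hy' (m i) = 0 := by
        refine hφbij.1 ?_
        rw [map_zero, map_sum]
        refine Eq.trans ?_ hc
        exact Finset.sum_congr rfl fun i _ => by rw [hsemi, hφ, hc']; rfl
      obtain ⟨b, hb⟩ := (Submodule.mem_span_range_iff_exists_fun _).1 (h2 c' h0)
      refine (Submodule.mem_span_range_iff_exists_fun _).2 ⟨fun k => ψ (b k), funext fun i => ?_⟩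
      simp only [Finset.sum_apply, Pi.smul_apply, smul_eq_mul]
      rw [← hc', ← hb]
      simp only [Finset.sum_apply, Pi.smul_apply, smul_eq_mul, map_sum, map_mul]
      exact Finset.sum_congr rfl fun k _ => by rw [hψ]; rfl

end GrothLib.HomSh
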